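import Mathlib.RingTheory.Etale.Field
import Mathlib.RingTheory.Smooth.Flat
import Mathlib.RingTheory.Flat.FaithfullyFlat.Algebra
import Mathlib.RingTheory.Unramified.Field
import Mathlib.RingTheory.IntegralClosure.IntegralRestrict
import Mathlib.LinearAlgebra.LinearIndependent.Defs
import Mathlib.RingTheory.Nakayama
import Mathlib.FieldTheory.IsAlgClosed.AlgebraicClosure
import Mathlib.RingTheory.Invariant.Basic
import Mathlib.Algebra.Polynomial.Derivative

/-!
# Principal finite étale algebras
-/

universe u v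

open Polynomial TensorProduct

set_option autoImplicit false
set_option linter.style.haveILetI false

namespace Groth.Agent.GalCover

/-- A finite étale algebra whose geometric fibres are torsors. -/
structure IsPrincipalAlg (G : Type v) (A B : Type u) [Group G] [CommRing A] [CommRing B] [Algebra A B]
    [MulSemiringAction G B] : Prop where
  finite : Module.Finite A B
  etale : Algebra.Etale A B
  surj : Function.Surjective (PrimeSpectrum.comap (algebraMap A B))
  simply : ∀ (Ω : Type u) [Field Ω] [IsAlgClosed Ω] [Algebra A Ω] (χ χ' : B →ₐ[A] Ω),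
    ∃! g : G, ∀ b, χ' b = χ (g • b)

variable {G : Type v} {A B : Type u} [Group G] [Finite G] [CommRing A] [CommRing B] [Algebra A B]
  [MulSemiringAction G B] [SMulCommClass G A B] (h : IsPrincipalAlg G A B)

include h

omit [Finite G] [SMulCommClass G A B] in
/-- There is a geometric point over each prime. -/
theorem exists_point (p : Ideal A) [p.IsPrime] :
    ∃ (Ω : Type u) (_ : Field Ω) (_ : IsAlgClosed Ω) (_ : Algebra A Ω) (_ : B →ₐ[A] Ω),
      RingHom.ker (algebraMap A Ω) = p := by
  obtain ⟨P, hP⟩ := h.surj ⟨p, ‹_›⟩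
  let Ω := AlgebraicClosure P.asIdeal.ResidueField
  letI : Algebra A Ω := ((algebraMap B Ω).comp (algebraMap A B)).toAlgebra
  refine ⟨Ω, inferInstance, inferInstance, inferInstance,
    { algebraMap B Ω with commutes' := fun _ => rfl }, ?_⟩
  rw [show algebraMap A Ω = (algebraMap B Ω).comp (algebraMap A B) from rfl, ← RingHom.comap_ker,
    IsScalarTower.algebraMap_eq B P.asIdeal.ResidueField Ω, ← RingHom.comap_ker,
    (RingHom.injective_iff_ker_eq_bot _).1 (algebraMap P.asIdeal.ResidueField Ω).injective,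
    ← RingHom.ker_eq_comap_bot, Ideal.ker_algebraMap_residueField]
  exact congrArg PrimeSpectrum.asIdeal hP

/-- Integral combinations: some `b` with nonzero value. -/
theorem exists_sum_smul_eq_one [Fintype G] : ∃ b : B, ∑ g : G, g • b = 1 := by
  haveI := h.finite
  -- the invariant subring
  let C : Subalgebra A B :=
    { carrier := {b | ∀ g : G, g • b = b}
      mul_mem' := fun ha hb g => by rw [smul_mul', ha g, hb g]
      add_mem' := fun ha hb g => by rw [smul_add, ha g, hb g]
      algebraMap_mem' := fun a g => smul_algebraMap g a }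
  have htr : ∀ b : B, (∑ g : G, g • b) ∈ C := fun b τ => by
    rw [Finset.smul_sum]
    exact Fintype.sum_equiv (Equiv.mulLeft τ) _ _ fun g => by simp [mul_smul]
  let J : Ideal C :=
    { carrier := {z | ∃ b : B, ∑ g : G, g • b = z}
      add_mem' := by
        rintro z w ⟨b, hb⟩ ⟨b', hb'⟩
        exact ⟨b + b', by simp [smul_add, Finset.sum_add_distrib, hb, hb']⟩
      zero_mem' := ⟨0, by simp⟩
      smul_mem' := by
        rintro c z ⟨b, hb⟩
        refine ⟨(c : B) * b, ?_⟩
        rw [smul_eq_mul, MulMemClass.coe_mul, ← hb, Finset.mul_sum]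
        exact Finset.sum_congr rfl fun g _ => by rw [smul_mul', c.2 g] }
  by_contra hne
  have hJ : J ≠ ⊤ := fun hJ => hne ((Ideal.eq_top_iff_one J).1 hJ)
  obtain ⟨n, hn, hJn⟩ := Ideal.exists_le_maximal J hJ
  haveI : Algebra.IsIntegral A B := Algebra.IsIntegral.of_finite A B
  haveI : Algebra.IsIntegral C B := Algebra.IsIntegral.tower_top (R := A)
  obtain ⟨N, hN, hNn⟩ := Ideal.exists_ideal_over_maximal_of_isIntegral (S := B) n (fun x hx => by
    have hx0 : x = 0 := Subtype.ext hx
    rw [hx0]
    exact n.zero_mem)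
  haveI := hN
  let Ω := AlgebraicClosure N.ResidueField
  letI : Algebra A Ω := ((algebraMap B Ω).comp (algebraMap A B)).toAlgebra
  let χ : B →ₐ[A] Ω := { algebraMap B Ω with commutes' := fun _ => rfl }
  have hinj : Function.Injective fun g : G => ((χ : B →* Ω).comp (MulSemiringAction.toRingHom G B g : B →* B)) := by
    intro g g' hg
    obtain ⟨g₀, -, huniq⟩ := h.simply Ω χ (χ.comp (MulSemiringAction.toAlgHom A B g))
    exact (huniq g fun b => rfl).trans (huniq g' fun b => DFunLike.congr_fun hg b).symm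
  have hli := (linearIndependent_monoidHom B Ω).comp _ hinj
  refine one_ne_zero (α := Ω) (Fintype.linearIndependent_iff.1 hli (fun _ => 1) (funext fun b => ?_) (1 : G))
  rw [Finset.sum_apply, Pi.zero_apply]
  have hmem : (∑ g : G, g • b) ∈ N := by
    have : (⟨_, htr b⟩ : C) ∈ N.comap (algebraMap C B) := hNn.symm ▸ hJn ⟨b, rfl⟩
    exact this
  have h0 : χ (∑ g : G, g • b) = 0 := by
    show algebraMap B Ω _ = 0
    rw [IsScalarTower.algebraMap_apply B N.ResidueField Ω, Ideal.algebraMap_residueField_eq_zero.2 hmem,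
      map_zero]
  rw [← h0, map_sum]
  refine Finset.sum_congr rfl fun g _ => ?_
  simp only [Function.comp_apply, Pi.smul_apply, one_smul]
  rfl

/-- Invariants are the base. -/
theorem exists_algebraMap_eq {z : B} (hz : ∀ g : G, g • z = z) : ∃ a, algebraMap A B a = z := by
  classical
  haveI := Fintype.ofFinite G
  haveI := h.finite
  haveI := h.etale
  obtain ⟨b₀, hb₀⟩ := exists_sum_smul_eq_one h
  let C : Submodule A B :=
    { carrier := {b | ∀ g : G, g • b = b}
      add_mem' := fun ha hb g => by rw [smul_add, ha g, hb g]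
      zero_mem' := fun g => smul_zero g
      smul_mem' := fun a b hb g => by rw [smul_comm, hb g] }
  let e : B →ₗ[A] C :=
    LinearMap.codRestrict C
      ((∑ g : G, (MulSemiringAction.toAlgHom A B g).toLinearMap).comp (LinearMap.mulLeft A b₀)) fun b τ => by
        simp only [LinearMap.comp_apply, LinearMap.coe_sum, Finset.sum_apply, AlgHom.toLinearMap_apply,
          LinearMap.mulLeft_apply, MulSemiringAction.toAlgHom_apply, Finset.smul_sum]
        exact Fintype.sum_equiv (Equiv.mulLeft τ) _ _ fun g => by simp [mul_smul]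
  have he : ∀ c : C, e c = c := fun c => Subtype.ext <| by
    simp only [e, LinearMap.codRestrict_apply, LinearMap.comp_apply, LinearMap.coe_sum, Finset.sum_apply,
      AlgHom.toLinearMap_apply, LinearMap.mulLeft_apply, MulSemiringAction.toAlgHom_apply]
    rw [Finset.sum_congr rfl fun g _ => by rw [smul_mul', c.2 g], ← Finset.sum_mul, hb₀, one_mul]
  have hone : (1 : B) ∈ C := fun g => smul_one g
  let L : Submodule A C := Submodule.span A {⟨1, hone⟩}
  haveI : Module.Finite A C := Module.Finite.of_surjective e fun c => ⟨c, he c⟩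
  suffices hsub : ∀ q : C ⧸ L, q = 0 by
    obtain ⟨a, ha⟩ := Submodule.mem_span_singleton.1 ((Submodule.Quotient.mk_eq_zero L).1 (hsub (Submodule.Quotient.mk ⟨z, hz⟩)))
    exact ⟨a, by rw [Algebra.algebraMap_eq_smul_one]; exact congrArg Subtype.val ha⟩
  have hmax : ∀ (m : Ideal A) [m.IsMaximal] (φ : (C ⧸ L) →ₗ[A] A ⧸ m), φ = 0 := by
    intro m _ φ
    refine Submodule.linearMap_qext _ (LinearMap.ext fun c => ?_)
    simp only [LinearMap.comp_apply, LinearMap.zero_comp, LinearMap.zero_apply, Submodule.mkQ_apply]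
    letI : Field (A ⧸ m) := Ideal.Quotient.field m
    let Ω := AlgebraicClosure (A ⧸ m)
    let j : (A ⧸ m) →ₐ[A] Ω := IsScalarTower.toAlgHom A (A ⧸ m) Ω
    let Φ : B →ₗ[A] Ω := (j.toLinearMap.comp φ).comp ((Submodule.mkQ L).comp e)
    let Ψ : Ω ⊗[A] B →ₗ[Ω] Ω := Φ.liftBaseChange Ω
    let BΩ := Ω ⊗[A] B
    haveI : IsReduced BΩ := Algebra.FormallyUnramified.isReduced_of_field Ω BΩ
    haveI : IsArtinianRing BΩ := IsArtinianRing.of_finite Ω BΩ
    obtain ⟨χ₀⟩ : Nonempty (B →ₐ[A] Ω) := by
      obtain ⟨P, hP⟩ := h.surj ⟨m, inferInstance⟩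
      haveI : Algebra.IsIntegral A B := Algebra.IsIntegral.of_finite A B
      haveI : P.asIdeal.LiesOver m := ⟨(congrArg PrimeSpectrum.asIdeal hP).symm⟩
      haveI : Algebra.IsAlgebraic (A ⧸ m) (B ⧸ P.asIdeal) := Algebra.IsIntegral.isAlgebraic
      exact ⟨((IsAlgClosed.lift (R := A ⧸ m) (S := B ⧸ P.asIdeal) (M := Ω)).restrictScalars A).comp
        (Ideal.Quotient.mkₐ A _)⟩
    have key : (1 : Ω) ⊗ₜ[A] (c : B) = χ₀ c ⊗ₜ[A] (1 : B) := by
      rw [← sub_eq_zero]
      refine IsNilpotent.eq_zero ?_
      rw [← mem_nilradical, nilradical_eq_sInf, Ideal.mem_sInf]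
      intro P hP
      haveI : P.IsPrime := hP
      haveI : P.IsMaximal := IsArtinianRing.isPrime_iff_isMaximal P |>.1 hP
      letI : Field (BΩ ⧸ P) := Ideal.Quotient.field P
      let ψ : BΩ →ₐ[Ω] Ω :=
        (IsAlgClosed.lift (R := Ω) (S := BΩ ⧸ P) (M := Ω)).comp (Ideal.Quotient.mkₐ Ω P)
      have hker : RingHom.ker ψ = P := by
        show RingHom.ker (((IsAlgClosed.lift (R := Ω) (S := BΩ ⧸ P) (M := Ω)) : (BΩ ⧸ P) →+* Ω).comp
          (Ideal.Quotient.mk P)) = P
        rw [← RingHom.comap_ker, (RingHom.injective_iff_ker_eq_bot _).1 (RingHom.injective ((IsAlgClosed.lift (R := Ω) (S := BΩ ⧸ P) (M := Ω)) : (BΩ ⧸ P) →+* Ω)),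
          ← RingHom.ker_eq_comap_bot, Ideal.mk_ker]
      rw [← hker, RingHom.mem_ker, map_sub, sub_eq_zero]
      obtain ⟨g, hg, -⟩ := h.simply Ω χ₀ ((ψ.restrictScalars A).comp Algebra.TensorProduct.includeRight)
      have h1 : ψ ((1 : Ω) ⊗ₜ[A] (c : B)) = χ₀ c := (hg c).trans (by rw [c.2 g])
      rw [h1, show χ₀ c ⊗ₜ[A] (1 : B) = algebraMap Ω BΩ (χ₀ c) from rfl, AlgHom.commutes]
      rfl
    have h3 := congrArg Ψ key
    simp only [Ψ, LinearMap.liftBaseChange_tmul, one_smul] at h3
    have hΦ1 : Φ 1 = 0 := by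
      show j (φ (Submodule.Quotient.mk (e 1))) = 0
      rw [show e 1 = e ((⟨1, hone⟩ : C) : B) from rfl, he,
        (Submodule.Quotient.mk_eq_zero L).2 (Submodule.mem_span_singleton_self _), map_zero, map_zero]
    rw [hΦ1, smul_zero] at h3
    have h4 : j (φ (Submodule.Quotient.mk (e c))) = 0 := h3
    rw [he] at h4
    exact (map_eq_zero_iff _ j.toRingHom.injective).1 h4
  intro q
  by_contra hq
  obtain ⟨m, hm, hle⟩ := Ideal.exists_le_maximal (Module.annihilator A (C ⧸ L)) fun hann => hq (by
    have := Module.mem_annihilator.1 (hann.symm ▸ Submodule.mem_top : (1 : A) ∈ Module.annihilator A (C ⧸ L)) q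
    simpa using this)
  haveI := hm
  have hne : m • (⊤ : Submodule A (C ⧸ L)) ≠ ⊤ := fun htop => by
    obtain ⟨r, hr, hr0⟩ := Submodule.exists_sub_one_mem_and_smul_eq_zero_of_fg_of_le_smul m ⊤
      Module.Finite.fg_top htop.ge
    exact hm.ne_top ((Ideal.eq_top_iff_one m).2 (by
      simpa using m.sub_mem (hle (Module.mem_annihilator.2 fun x => hr0 x Submodule.mem_top)) hr))
  letI : Field (A ⧸ m) := Ideal.Quotient.field m
  let Q := (C ⧸ L) ⧸ (m • (⊤ : Submodule A (C ⧸ L)))
  haveI : Nontrivial Q := Submodule.Quotient.nontrivial_iff.2 hne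
  obtain ⟨v, hv⟩ := exists_ne (0 : Q)
  obtain ⟨f, hf⟩ := Module.Projective.exists_dual_ne_zero (A ⧸ m) hv
  obtain ⟨w, rfl⟩ := Submodule.Quotient.mk_surjective _ v
  exact hf (DFunLike.congr_fun (hmax m ((f.restrictScalars A).comp (Submodule.mkQ _))) w)

omit [Finite G] [SMulCommClass G A B] in
theorem algebraMap_injective : Function.Injective (algebraMap A B) := by
  haveI := h.etale
  haveI : Module.FaithfullyFlat A B := Module.FaithfullyFlat.of_comap_surjective h.surj
  exact FaithfulSMul.algebraMap_injective A B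

/-- A polynomial with invariant coefficients comes from the base. -/
theorem exists_map_eq (Q : B[X]) (hQ : ∀ g : G, g • Q = Q) : ∃ QA : A[X], QA.map (algebraMap A B) = Q := by
  rw [← Polynomial.mem_lifts, Polynomial.lifts_iff_coeff_lifts]
  intro n
  exact exists_algebraMap_eq h fun g => by rw [← Polynomial.coeff_smul, hQ]

/-- Recognising a principal algebra as generated by one element. -/
theorem bijective_aeval [Fintype G] [DecidableEq G] (θ : B) (P : A[X]) (hP : P.Monic)
    (hPθ : P.map (algebraMap A B) = ∏ g : G, (X - C (g • θ)))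
    (hu : IsUnit ((derivative P).aeval θ))
    (hcancel : ∀ H : A[X], P ∣ derivative P * H → P ∣ H) :
    (∀ H : A[X], aeval θ H = 0 ↔ P ∣ H) ∧ Function.Surjective (fun H : A[X] => aeval θ H) := by
  have hev : ∀ H : A[X], aeval θ H = (H.map (algebraMap A B)).eval θ := fun H => by
    rw [Polynomial.eval_map, Polynomial.aeval_def]
  have hdiv : ∀ H : A[X], H.map (algebraMap A B) = 0 → H = 0 := fun H hH =>
    Polynomial.map_injective _ (algebraMap_injective h) (hH.trans (Polynomial.map_zero _).symm)
  refine ⟨fun H => ⟨fun hH => ?_, ?_⟩, fun s => ?_⟩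
  · have hroot : ∀ g : G, (H.map (algebraMap A B)).eval (g • θ) = 0 := fun g => by
      have hfix : g • (H.map (algebraMap A B)) = H.map (algebraMap A B) := by
        ext n
        rw [Polynomial.coeff_smul, Polynomial.coeff_map, smul_algebraMap]
      rw [← hfix, Polynomial.smul_eval_smul, ← hev, hH, smul_zero]
    have hd : P.map (algebraMap A B) ∣ (derivative P * H).map (algebraMap A B) := by
      rw [Polynomial.map_mul, ← Polynomial.derivative_map, hPθ, Polynomial.derivative_prod_finset, Finset.sum_mul]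
      refine Finset.dvd_sum fun g _ => ?_
      rw [derivative_X_sub_C, mul_one]
      obtain ⟨T, hT⟩ := Polynomial.dvd_iff_isRoot.2 (hroot g)
      exact ⟨T, by rw [hT, ← mul_assoc, Finset.prod_erase_mul _ _ (Finset.mem_univ g)]⟩
    rw [Polynomial.map_dvd_map _ (algebraMap_injective h) hP] at hd
    exact hcancel H hd
  · rintro ⟨T, rfl⟩
    rw [hev, Polynomial.map_mul, hPθ, eval_mul, eval_prod,
      Finset.prod_eq_zero (Finset.mem_univ (1 : G)) (by simp), zero_mul]
  · let E : G → B[X] := fun g => ∏ d ∈ Finset.univ.erase g, (X - C (d • θ))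
    have hE : ∀ τ g : G, τ • E g = E (τ * g) := by
      intro τ g
      rw [Finset.smul_prod']
      refine Finset.prod_bij' (fun d _ => τ * d) (fun d _ => τ⁻¹ * d) ?_ ?_ ?_ ?_ ?_
      · intro d hd
        simp only [Finset.mem_erase, Finset.mem_univ, and_true] at hd ⊢
        exact fun h' => hd (mul_left_cancel h')
      · intro d hd
        simp only [Finset.mem_erase, Finset.mem_univ, and_true] at hd ⊢
        exact fun h' => hd (by rw [← h', mul_inv_cancel_left])
      · exact fun d _ => inv_mul_cancel_left τ d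
      · exact fun d _ => mul_inv_cancel_left τ d
      · intro d _
        rw [smul_sub, Polynomial.smul_X, Polynomial.smul_C, mul_smul]
    let Q : B[X] := ∑ g : G, C (g • s) * E g
    obtain ⟨QA, hQA⟩ := exists_map_eq h Q fun τ => by
      rw [Finset.smul_sum]
      exact Fintype.sum_equiv (Equiv.mulLeft τ) _ _ fun g => by
        rw [smul_mul', Polynomial.smul_C, hE, ← mul_smul]
        rfl
    have hEne : ∀ g : G, g ≠ 1 → (E g).eval θ = 0 := fun g hg => by
      rw [eval_prod]
      exact Finset.prod_eq_zero (Finset.mem_erase.2 ⟨hg.symm, Finset.mem_univ 1⟩) (by simp)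
    have hd1 : aeval θ (derivative P) = (E 1).eval θ := by
      rw [hev, ← Polynomial.derivative_map, hPθ, Polynomial.derivative_prod_finset, eval_finsetSum,
        Finset.sum_eq_single (1 : G)]
      · rw [derivative_X_sub_C, mul_one]
      · intro g _ hg
        rw [derivative_X_sub_C, mul_one]
        exact hEne g hg
      · exact fun h' => absurd (Finset.mem_univ (1 : G)) h'
    have hval : aeval θ QA = s * aeval θ (derivative P) := by
      rw [hev QA, hQA, hd1, eval_finsetSum, Finset.sum_eq_single (1 : G)]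
      · rw [eval_mul, eval_C, one_smul]
      · intro g _ hg
        rw [eval_mul, hEne g hg, mul_zero]
      · exact fun h' => absurd (Finset.mem_univ (1 : G)) h'
    obtain ⟨T, hT⟩ : ∃ T : A[X], aeval θ T * aeval θ (derivative P) = 1 := by
      obtain ⟨w, hw⟩ := hu.exists_left_inv
      let Qw : B[X] := ∑ g : G, C (g • w) * E g
      obtain ⟨R, hR⟩ := exists_map_eq h Qw fun τ => by
        rw [Finset.smul_sum]
        exact Fintype.sum_equiv (Equiv.mulLeft τ) _ _ fun g => by
          rw [smul_mul', Polynomial.smul_C, hE, ← mul_smul]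
          rfl
      have hRv : aeval θ R = w * aeval θ (derivative P) := by
        rw [hev R, hR, hd1, eval_finsetSum, Finset.sum_eq_single (1 : G)]
        · rw [eval_mul, eval_C, one_smul]
        · intro g _ hg
          rw [eval_mul, hEne g hg, mul_zero]
        · exact fun h' => absurd (Finset.mem_univ (1 : G)) h'
      rw [hw] at hRv
      let Qw2 : B[X] := ∑ g : G, C (g • (w * w)) * E g
      obtain ⟨R2, hR2⟩ := exists_map_eq h Qw2 fun τ => by
        rw [Finset.smul_sum]
        exact Fintype.sum_equiv (Equiv.mulLeft τ) _ _ fun g => by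
          rw [smul_mul', Polynomial.smul_C, hE, ← mul_smul]
          rfl
      refine ⟨R2, ?_⟩
      have hR2v : aeval θ R2 = w * w * aeval θ (derivative P) := by
        rw [hev R2, hR2, hd1, eval_finsetSum, Finset.sum_eq_single (1 : G)]
        · rw [eval_mul, eval_C, one_smul]
        · intro g _ hg
          rw [eval_mul, hEne g hg, mul_zero]
        · exact fun h' => absurd (Finset.mem_univ (1 : G)) h'
      rw [hR2v, mul_assoc w w, hw, mul_one, hw]
    refine ⟨QA * T, ?_⟩
    show aeval θ (QA * T) = s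
    rw [map_mul, hval, mul_assoc, mul_comm (aeval θ (derivative P)), hT, mul_one]

end Groth.Agent.GalCover
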