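import Groth.Agent.GalCover.Algebra
import Mathlib.RingTheory.LocalRing.ResidueField.Basic

/-!
# Generators of principal cyclic algebras over local rings
-/

universe u v

open Polynomial

set_option autoImplicit false
set_option linter.style.haveILetI false

namespace Groth.Agent.GalCover

theorem exists_kummer_gen {A B : Type u} {G : Type v} [CommRing A] [IsLocalRing A] [CommRing B] [Algebra A B]
    [Group G] [Fintype G] [MulSemiringAction G B] [SMulCommClass G A B] (hB : IsPrincipalAlg G A B)
    (n : ℕ) (hn1 : 1 ≤ n) (hn : IsUnit ((n : ℕ) : A)) (ι : G →* A) (hcard : Fintype.card G = n)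
    (hpow : ∀ g, ι g ^ n = 1)
    (hbase : (X ^ n - 1 : A[X]) = ∏ g : G, (X - C (ι g))) :
    ∃ (a : Aˣ) (θ : B), (∀ τ : G, τ • θ = algebraMap A B (ι τ⁻¹) * θ) ∧
      (∀ H : A[X], aeval θ H = 0 ↔ (X ^ n - C (a : A)) ∣ H) ∧ Function.Surjective (fun H : A[X] => aeval θ H) := by
  classical
  haveI : NeZero n := ⟨by omega⟩
  let c : G →* B := (algebraMap A B : A →* B).comp ι
  let Θ : B → B := fun b => ∑ g : G, c g * g • b
  have hΘ : ∀ b (τ : G), τ • Θ b = c τ⁻¹ * Θ b := by
    intro b τ
    rw [Finset.smul_sum, Finset.mul_sum]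
    refine Fintype.sum_equiv (Equiv.mulLeft τ) _ _ fun g => ?_
    rw [smul_mul', show τ • c g = c g from smul_algebraMap τ _, ← mul_smul, Equiv.coe_mulLeft,
      ← mul_assoc, ← map_mul, inv_mul_cancel_left]
  obtain ⟨Ω, _, _, _, χ, hker⟩ := exists_point hB (IsLocalRing.maximalIdeal A)
  obtain ⟨b, hb⟩ : ∃ b, χ (Θ b) ≠ 0 := by
    by_contra hall
    simp only [not_exists, not_not] at hall
    have hinj : Function.Injective fun g : G =>
        ((χ : B →* Ω).comp (MulSemiringAction.toRingHom G B g : B →* B)) := by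
      intro g g' hg
      obtain ⟨g₁, -, huniq⟩ := hB.simply Ω χ (χ.comp (MulSemiringAction.toAlgHom A B g))
      exact (huniq g fun b => rfl).trans (huniq g' fun b => DFunLike.congr_fun hg b).symm
    have hli := (linearIndependent_monoidHom B Ω).comp _ hinj
    have h0 := Fintype.linearIndependent_iff.1 hli (fun g => algebraMap A Ω (ι g)) (funext fun b => by
      rw [Finset.sum_apply, Pi.zero_apply, ← hall b, map_sum]
      refine Finset.sum_congr rfl fun g _ => ?_
      rw [map_mul, show χ (c g) = algebraMap A Ω (ι g) from AlgHom.commutes χ _, Pi.smul_apply, smul_eq_mul]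
      rfl) 1
    exact one_ne_zero (α := Ω) (by simpa using h0)
  let θ : B := Θ b
  have hcpow : ∀ g, c g ^ n = 1 := fun g => by
    show algebraMap A B (ι g) ^ n = 1
    rw [← map_pow, hpow, map_one]
  obtain ⟨a₀, ha₀⟩ := exists_algebraMap_eq hB (z := θ ^ n) fun g => by
    rw [smul_pow', hΘ, mul_pow, hcpow, one_mul]
  have ha₀u : IsUnit a₀ := by
    by_contra hu
    have h1 : algebraMap A Ω a₀ = 0 := by
      rw [← RingHom.mem_ker, hker]
      exact hu
    rw [← AlgHom.commutes χ, ha₀, map_pow] at h1
    exact hb ((pow_eq_zero_iff (NeZero.ne n)).1 h1)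
  have hθu : IsUnit θ := by
    rw [← isUnit_pow_iff (NeZero.ne n), ← ha₀]
    exact ha₀u.map _
  obtain ⟨w, hw⟩ := hθu.exists_left_inv
  let f : A[X] := X ^ n - C a₀
  have hprod : f.map (algebraMap A B) = ∏ g : G, (X - C (g • θ)) := by
    have h1 := congrArg (fun q => (q.map (algebraMap A B)).comp (C w * X)) hbase
    simp only [Polynomial.map_sub, Polynomial.map_pow, Polynomial.map_X, Polynomial.map_prod,
      Polynomial.map_C, Polynomial.map_one, sub_comp, pow_comp, X_comp, prod_comp, C_comp, one_comp] at h1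
    have h2 : f.map (algebraMap A B) = C θ ^ n * ((C w * X) ^ n - 1) := by
      rw [mul_sub, ← mul_pow, ← mul_assoc, ← C_mul, mul_comm θ w, hw, C_1, one_mul, mul_one, ← C_pow]
      simp [f, ha₀]
    rw [h2, h1, ← hcard, ← Finset.card_univ, ← Finset.prod_const, ← Finset.prod_mul_distrib]
    refine Fintype.prod_equiv (Equiv.inv G) _ _ fun g => ?_
    rw [Equiv.inv_apply, hΘ, inv_inv, mul_sub, ← mul_assoc, ← C_mul, ← C_mul,
      mul_comm θ w, hw, C_1, one_mul, mul_comm θ]
    rfl
  have hnB : IsUnit ((n : ℕ) : B) := by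
    simpa using hn.map (algebraMap A B)
  obtain ⟨hk, hs⟩ := bijective_aeval hB θ f (monic_X_pow_sub_C _ (by omega)) hprod
    (by
      simp only [f, derivative_sub, derivative_X_pow, derivative_C, sub_zero, map_mul, map_pow, aeval_X,
        map_natCast]
      exact hnB.mul (hθu.pow _))
    (fun H hH => by
      simp only [f, derivative_sub, derivative_X_pow, derivative_C, sub_zero] at hH
      have h1 : f ∣ C (n : A) * X ^ n * H := by
        have := dvd_mul_of_dvd_left hH X
        convert this using 1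
        rw [show (X : A[X]) ^ n = X ^ (n - 1) * X from by rw [← pow_succ, Nat.sub_add_cancel hn1]]
        ring
      have h2 : f ∣ C ((n : A) * a₀) * H := by
        have h3 : f ∣ C (n : A) * f * H := dvd_mul_of_dvd_left (dvd_mul_left _ _) _
        convert dvd_sub h1 h3 using 1
        simp only [f, C_mul]
        ring
      exact (IsUnit.dvd_mul_left ((hn.mul ha₀u).map C)).1 h2)
  exact ⟨ha₀u.unit, θ, fun τ => hΘ b τ, hk, hs⟩

end Groth.Agent.GalCover
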