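import Groth.Agent.GalCover.Algebra
import Groth.Prelude.Def_SGA1t

/-!
# The algebra of a principal cover of an affine scheme
-/

universe u v

open CategoryTheory AlgebraicGeometry

set_option autoImplicit false
set_option linter.style.haveILetI false
set_option backward.isDefEq.respectTransparency false
set_option backward.isDefEq.respectTransparency.types false

namespace Groth.Agent.GalCover

theorem exists_model (A : Type u) [CommRing A] (G : Type v) [Group G]
    (P : FEt.Cat (Spec (CommRingCat.of A))) (ρ : G →* Aut P) (hP : SGA1t.IsPrincipal G P ρ) :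
    ∃ (B : Type u) (_ : CommRing B) (_ : Algebra A B) (_ : MulSemiringAction G B) (_ : SMulCommClass G A B),
      IsPrincipalAlg G A B ∧ ∃ e : P.left ≅ Spec (CommRingCat.of B),
        e.hom ≫ Spec.map (CommRingCat.ofHom (algebraMap A B)) = P.hom ∧
        ∀ g : G, (ρ g).hom.left ≫ e.hom =
          e.hom ≫ Spec.map (CommRingCat.ofHom (MulSemiringAction.toRingHom G B g⁻¹)) := by
  let W : Scheme.{u} := P.left
  let π : W ⟶ Spec (CommRingCat.of A) := P.hom
  haveI : IsFinite π := P.prop.1
  haveI : Etale π := P.prop.2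
  haveI : IsAffine W := isAffine_of_isAffineHom π
  let B : Type u := Γ(W, ⊤)
  let ψ : CommRingCat.of A ⟶ Γ(W, ⊤) := (Scheme.ΓSpecIso (CommRingCat.of A)).inv ≫ π.appTop
  letI : Algebra A B := ψ.hom.toAlgebra
  let α : G → (W ⟶ W) := fun g => (ρ g).hom.left
  have hαπ : ∀ g, α g ≫ π = π := fun g => MorphismProperty.Over.w (ρ g).hom
  have hαone : α 1 = 𝟙 W := by
    show (ρ 1).hom.left = _
    rw [map_one]
    rfl
  have hαmul : ∀ g g', α (g * g') = α g' ≫ α g := fun g g' => by
    show (ρ (g * g')).hom.left = _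
    rw [map_mul]
    rfl
  letI act : MulSemiringAction G B :=
    { smul := fun g b => (α g⁻¹).appTop b
      one_smul := fun b => by
        show (α 1⁻¹).appTop b = b
        rw [inv_one, hαone]
        rfl
      mul_smul := fun g g' b => by
        show (α (g * g')⁻¹).appTop b = (α g⁻¹).appTop ((α g'⁻¹).appTop b)
        rw [mul_inv_rev, hαmul]
        rfl
      smul_zero := fun g => map_zero (α g⁻¹).appTop.hom
      smul_add := fun g a b => map_add (α g⁻¹).appTop.hom a b
      smul_one := fun g => map_one (α g⁻¹).appTop.hom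
      smul_mul := fun g a b => map_mul (α g⁻¹).appTop.hom a b }
  have hψ : ∀ g, ψ ≫ (α g).appTop = ψ := fun g => by
    show (_ ≫ π.appTop) ≫ _ = _ ≫ π.appTop
    rw [Category.assoc, ← Scheme.Hom.comp_appTop, hαπ]
  haveI : SMulCommClass G A B := ⟨fun g a b => by
    show (α g⁻¹).appTop (ψ a * b) = ψ a * (α g⁻¹).appTop b
    rw [map_mul, ← ConcreteCategory.comp_apply, hψ]⟩
  let e : W ≅ Spec (CommRingCat.of B) := W.isoSpec
  have heπ : e.hom ≫ Spec.map ψ = π := by
    show W.isoSpec.hom ≫ Spec.map ((Scheme.ΓSpecIso (CommRingCat.of A)).inv ≫ π.appTop) = π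
    rw [Spec.map_comp, ← Category.assoc, Scheme.isoSpec_hom_naturality, Category.assoc,
      Scheme.isoSpec_Spec_hom, ← Spec.map_comp, Iso.inv_hom_id, Spec.map_id, Category.comp_id]
  have hetale : Etale (Spec.map ψ) := by
    rw [← MorphismProperty.cancel_left_of_respectsIso @Etale e.hom, heπ]
    infer_instance
  have hfin : IsFinite (Spec.map ψ) := by
    rw [← MorphismProperty.cancel_left_of_respectsIso @IsFinite e.hom, heπ]
    infer_instance
  have hnat : ∀ g : G, α g ≫ e.hom = e.hom ≫ Spec.map (α g).appTop := fun g =>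
    (Scheme.isoSpec_hom_naturality (α g)).symm
  refine ⟨B, inferInstance, inferInstance, act, inferInstance, ⟨?_, ?_, ?_, ?_⟩, e, heπ, fun g => ?_⟩
  · exact RingHom.finite_algebraMap.1 ((IsFinite.SpecMap_iff ψ).1 hfin)
  · exact RingHom.etale_algebraMap.1 ((HasRingHomProperty.Spec_iff (P := @Etale)).1 hetale)
  · intro p
    obtain ⟨w, hw⟩ := hP.1 p
    refine ⟨e.hom w, ?_⟩
    exact (Scheme.Hom.comp_apply e.hom (Spec.map ψ) w).symm.trans ((congrArg (fun f : W ⟶ _ => f w) heπ).trans hw)
  · intro Ω _ _ _ χ χ'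
    let ξ : Spec (CommRingCat.of Ω) ⟶ Spec (CommRingCat.of A) := Spec.map (CommRingCat.ofHom (algebraMap A Ω))
    let pt : (B →ₐ[A] Ω) → FEt.fiberObj ξ P := fun χ =>
      ⟨Spec.map (CommRingCat.ofHom χ.toRingHom) ≫ e.inv, by
        show (Spec.map (CommRingCat.ofHom χ.toRingHom) ≫ e.inv) ≫ π = ξ
        rw [Category.assoc, show e.inv ≫ π = Spec.map ψ by rw [← heπ, Iso.inv_hom_id_assoc], ← Spec.map_comp]
        exact congrArg Spec.map (CommRingCat.hom_ext (RingHom.ext fun a => χ.commutes a))⟩
    have key : ∀ g : G, ((FEt.fiber ξ).map (ρ g).hom (pt χ) = pt χ') ↔ ∀ b, χ' b = χ (g⁻¹ • b) := fun g => by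
      rw [Subtype.ext_iff]
      show (Spec.map (CommRingCat.ofHom χ.toRingHom) ≫ e.inv) ≫ α g =
        Spec.map (CommRingCat.ofHom χ'.toRingHom) ≫ e.inv ↔ _
      rw [← cancel_mono e.hom, Category.assoc, Category.assoc, Category.assoc, hnat, Iso.inv_hom_id_assoc,
        Iso.inv_hom_id, Category.comp_id, ← Spec.map_comp]
      have hsm : ∀ b : B, g⁻¹ • b = (α g).appTop b := fun b => by
        show (α g⁻¹⁻¹).appTop b = _
        rw [inv_inv]
      constructor
      · intro h b
        rw [hsm]
        exact (ConcreteCategory.congr_hom (Spec.map_injective h) b).symm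
      · intro h
        exact congrArg Spec.map (CommRingCat.hom_ext (RingHom.ext fun b => by
          show χ ((α g).appTop b) = χ' b
          rw [← hsm, h b]))
    obtain ⟨g, hg, huniq⟩ := hP.2 Ω ξ (pt χ) (pt χ')
    refine ⟨g⁻¹, (key g).1 hg, fun g' hg' => ?_⟩
    rw [← huniq g'⁻¹ ((key g'⁻¹).2 (by simpa using hg')), inv_inv]
  · show α g ≫ e.hom = _
    rw [hnat]
    refine congrArg (e.hom ≫ Spec.map ·) (CommRingCat.hom_ext (RingHom.ext fun b => ?_))
    show (α g).appTop b = (α g⁻¹⁻¹).appTop b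
    rw [inv_inv]

end Groth.Agent.GalCover
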